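import Cfsg.Agent.ExtraspecialIso.Classification

/-!
# Extraspecial two-groups are determined by their rank

A nondegenerate `D` of order `2 ^ (2n+1)` has elementary abelian subgroups of order `2 ^ n`, none
above `2 ^ (n+1)`, and its isomorphism type is determined by whether the latter order occurs.
-/

set_option autoImplicit false
set_option linter.unusedSectionVars false

namespace CfsgLib.ExtraspecialIso

open Subgroup CfsgLib.ExtraspecialBasic
open scoped commutatorElement

variable {P P' : Type*} [Group P] [Group P'] [Finite P] [Finite P'] [Fact (Nat.Prime 2)]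
  {z : P} {z' : P'}

/-- An elementary abelian subgroup of `D` of order at least `2 ^ k`. -/
def HasElem (D : Subgroup P) (k : ℕ) : Prop :=
  ∃ A : Subgroup P, A ≤ D ∧ IsMulCommutative A ∧ (∀ a ∈ A, a ^ 2 = 1) ∧ 2 ^ k ≤ Nat.card A

namespace Gen

variable (hg : Gen 2 z)
include hg

theorem center_card : Nat.card (center P) = 2 := hg.extra.2

/-- Elements of an abelian subgroup through `x` commuting with `y` lie in the complement. -/
theorem inf_centralizer_le {D K A : Subgroup P} (hD : Nondeg D) {x y : P} (hA : IsMulCommutative A)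
    (hxA : x ∈ A) (hAD : A ≤ D) (hKn : Nondeg K)
    (hcom : ∀ a ∈ closure {x, y, z}, ∀ k ∈ K, Commute a k)
    (hsup : closure {x, y, z} ⊔ K = D) : A ⊓ centralizer ({y} : Set P) ≤ K := by
  rintro a ⟨haA, hay⟩
  have hnorm : K ≤ normalizer (closure {x, y, z} : Subgroup P) := fun k hk => by
    rw [mem_normalizer_iff]
    intro c
    constructor
    · intro hc; rw [← (hcom c hc k hk).eq, mul_inv_cancel_right]; exact hc
    · intro hc
      have h := hcom _ hc k hk
      have : k * c * k⁻¹ = c := by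
        have h1 := h.eq
        rw [inv_mul_cancel_right] at h1
        exact mul_left_cancel (a := k) (by rw [← h1])
      rwa [this] at hc
  have haD : a ∈ closure {x, y, z} ⊔ K := hsup.symm ▸ hAD haA
  rw [← SetLike.mem_coe, coe_mul_of_right_le_normalizer_left _ _ hnorm] at haD
  obtain ⟨c, hc, k, hk, rfl⟩ := haD
  refine K.mul_mem (hKn.center_le ?_) hk
  have hcD : c ∈ D := hsup ▸ mem_sup_left hc
  refine hD.nondeg c hcD fun d hd => ?_
  have hgen : ∀ u ∈ ({x, y, z} : Set P), Commute c u := by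
    intro u hu
    have huk : Commute u k := hcom u (subset_closure hu) k hk
    have hcu : Commute (c * k) u := by
      rcases hu with rfl | rfl | rfl
      · exact congrArg Subtype.val (hA.is_comm.comm ⟨c * k, haA⟩ ⟨u, hxA⟩)
      · exact mem_centralizer_singleton_iff.1 hay
      · exact (mem_center_iff.1 hg.mem (c * k))
    have := hcu.mul_left huk.symm.inv_left
    rwa [mul_inv_cancel_right] at this
  have hle : D ≤ centralizer ({c} : Set P) := by
    rw [← hsup]
    refine sup_le ((closure_le _).2 fun u hu => ?_) fun k' hk' => ?_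
    · exact mem_centralizer_singleton_iff.2 (hgen u hu).eq.symm
    · exact mem_centralizer_singleton_iff.2 (hcom c hc k' hk').eq.symm
  exact (mem_centralizer_singleton_iff.1 (hle hd)).symm

theorem card_le_two_mul (A : Subgroup P) (y : P) :
    Nat.card A ≤ 2 * Nat.card (A ⊓ centralizer ({y} : Set P) : Subgroup P) := by
  let f : A →* center P := (commHom hg.extra y).comp A.subtype
  have e := card_mul_index f.ker
  rw [index_ker] at e
  rw [← e, mul_comm 2]
  refine Nat.mul_le_mul ?_ ((card_le_card_group f.range).trans hg.center_card.le)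
  refine Nat.card_le_card_of_injective (fun a : f.ker => (⟨((a : A) : P), (a : A).2, ?_⟩ :
    (A ⊓ centralizer ({y} : Set P) : Subgroup P))) fun a b h =>
    Subtype.ext (Subtype.ext (congrArg Subtype.val h :))
  exact mem_centralizer_singleton_iff.2
    ((commHom_eq_one hg.extra).1 (MonoidHom.mem_ker.1 a.2)).eq.symm

/-- Abelian subgroups have order at most `2 ^ (n+1)`. -/
theorem card_comm_le : ∀ (n : ℕ) (D : Subgroup P), Nondeg D → Nat.card D = 2 ^ (2 * n + 1) →
    ∀ A : Subgroup P, A ≤ D → IsMulCommutative A → Nat.card A ≤ 2 ^ (n + 1) := by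
  intro n
  induction n with
  | zero =>
    intro D _ hc A hAD _
    exact (card_le_of_le hAD).trans hc.le
  | succ n ih =>
    intro D hD hc A hAD hA
    by_cases hAZ : A ≤ center P
    · exact ((card_le_of_le hAZ).trans hg.center_card.le).trans
        (le_of_eq_of_le (pow_one 2).symm (Nat.pow_le_pow_right (by norm_num) (by omega)))
    obtain ⟨x, hxA, hxc⟩ := SetLike.not_le_iff_exists.1 hAZ
    obtain ⟨y, hy, hP⟩ := exists_pair_of_mem hg.extra hg.mem hg.order hg.gen hD (hAD hxA) hxc
    obtain ⟨K, hK, hKc, hcom, -, hsup⟩ := hg.split hD hc (hAD hxA) hy hP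
    have h1 := ih K hK hKc (A ⊓ centralizer ({y} : Set P))
      (hg.inf_centralizer_le hD hA hxA hAD hK hcom hsup)
      ⟨⟨fun a b => Subtype.ext
        (congrArg Subtype.val (hA.is_comm.comm ⟨a, a.2.1⟩ ⟨b, b.2.1⟩) :)⟩⟩
    have h2 := hg.card_le_two_mul A y
    rw [pow_succ]
    omega

/-- Adjoining a noncentral involution commuting with `A`. -/
theorem hasElem_succ {D K : Subgroup P} {x y : P} {k : ℕ} (hx : x ∈ D) (hxc : x ∉ center P)
    (hx2 : x ^ 2 = 1) (hcom : ∀ a ∈ closure {x, y, z}, ∀ k ∈ K, Commute a k)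
    (hinf : closure {x, y, z} ⊓ K ≤ zpowers z) (hKD : K ≤ D) (h : HasElem K k) :
    HasElem D (k + 1) := by
  obtain ⟨A, hAK, hA, hA2, hAc⟩ := h
  have hxK : x ∉ A := fun h => hxc (by
    have h1 := hinf ⟨subset_closure (by simp), hAK h⟩
    rwa [hg.gen] at h1)
  have hxa : ∀ a ∈ A, Commute x a := fun a ha => hcom x (subset_closure (by simp)) a (hAK ha)
  let B : Subgroup P :=
    { carrier := {b | ∃ a ∈ A, b = a ∨ b = x * a}
      one_mem' := ⟨1, one_mem A, Or.inl rfl⟩
      mul_mem' := fun {u v} hu hv => by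
        obtain ⟨a, ha, hu⟩ := hu
        obtain ⟨b, hb, hv⟩ := hv
        refine ⟨a * b, mul_mem ha hb, ?_⟩
        rcases hu with rfl | rfl <;> rcases hv with rfl | rfl
        · exact Or.inl rfl
        · exact Or.inr (by rw [← mul_assoc, ← (hxa _ ha).eq, mul_assoc])
        · exact Or.inr (mul_assoc _ _ _)
        · refine Or.inl ?_
          calc x * a * (x * b) = x * x * (a * b) := by rw [mul_assoc, ← mul_assoc a, ← (hxa _ ha).eq]; group
            _ = a * b := by rw [← pow_two, hx2, one_mul]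
      inv_mem' := fun {u} hu => by
        obtain ⟨a, ha, hu⟩ := hu
        refine ⟨a⁻¹, inv_mem ha, ?_⟩
        rcases hu with rfl | rfl
        · exact Or.inl rfl
        · refine Or.inr ?_
          rw [(hxa a ha).eq, mul_inv_rev]
          congr 1
          exact inv_eq_of_mul_eq_one_right (by rw [← pow_two]; exact hx2) }
  refine ⟨B, ?_, ⟨⟨fun u v => Subtype.ext ?_⟩⟩, ?_, ?_⟩
  · rintro b ⟨a, ha, rfl | rfl⟩
    · exact hKD (hAK ha)
    · exact mul_mem hx (hKD (hAK ha))
  · obtain ⟨a, ha, hu⟩ := u.2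
    obtain ⟨b, hb, hv⟩ := v.2
    have hab : Commute a b := congrArg Subtype.val (hA.is_comm.comm ⟨a, ha⟩ ⟨b, hb⟩)
    show (u : P) * v = v * u
    rcases hu with hu | hu <;> rcases hv with hv | hv <;> rw [hu, hv]
    · exact hab.eq
    · exact ((hxa a ha).symm.mul_right hab).eq
    · exact ((hxa b hb).mul_left hab).eq
    · exact (((Commute.refl x).mul_right (hxa b hb)).mul_left
        ((hxa a ha).symm.mul_right hab)).eq
  · rintro b ⟨a, ha, rfl | rfl⟩
    · exact hA2 _ ha
    · rw [(hxa a ha).mul_pow, hx2, hA2 _ ha, one_mul]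
  · rw [pow_succ]
    have hlt : A < B := lt_of_le_of_ne (fun a ha => ⟨a, ha, Or.inl rfl⟩)
      fun h => hxK (h ▸ (⟨1, one_mem A, Or.inr (mul_one x).symm⟩ : x ∈ B))
    obtain ⟨c, hc⟩ := card_dvd_of_le hlt.le
    have hlt' : Nat.card A < Nat.card B := by
      refine lt_of_le_of_ne (card_le_of_le hlt.le) fun e => hlt.ne ?_
      exact eq_of_le_of_card_ge hlt.le e.ge
    rw [hc] at hlt' ⊢
    refine Nat.mul_le_mul hAc ?_
    rcases c with _ | _ | c <;> simp_all

theorem hasElem_base {D : Subgroup P} (hD : Nondeg D) : HasElem D 1 :=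
  ⟨center P, hD.center_le, inferInstance, fun _ ha => pow_center_eq_one hg.extra ha,
    hg.center_card.ge⟩

theorem hasElem_lower : ∀ (n : ℕ) (D : Subgroup P), Nondeg D → Nat.card D = 2 ^ (2 * n + 1) →
    HasElem D n := by
  intro n
  induction n with
  | zero =>
    intro D _ _
    exact ⟨⊥, bot_le, inferInstance, fun a ha => by rw [mem_bot.1 ha, one_pow], by simp⟩
  | succ n ih =>
    intro D hD hc
    rcases Nat.eq_zero_or_pos n with rfl | hn
    · exact hg.hasElem_base hD
    obtain ⟨m, rfl⟩ : ∃ m, n = m + 1 := ⟨n - 1, by omega⟩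
    obtain ⟨x, hx, hxc, hx2⟩ := hg.exists_involution hD hc
    obtain ⟨y, hy, hP, -⟩ := hg.exists_involution_pair hD hx hxc hx2
    obtain ⟨K, hK, hKc, hcom, hinf, hsup⟩ := hg.split hD hc hx hy hP
    exact hg.hasElem_succ hx hxc hx2 hcom hinf (hsup ▸ le_sup_right) (ih K hK hKc)

/-- With maximal rank a noncentral involution splits off a piece of maximal rank. -/
theorem exists_plus_split {D : Subgroup P} (hD : Nondeg D) {n : ℕ}
    (hc : Nat.card D = 2 ^ (2 * (n + 1) + 1)) (h : HasElem D (n + 2)) :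
    ∃ x y : P, ∃ K : Subgroup P, Pair 2 x y z ∧ x ^ 2 = 1 ∧ y ^ 2 = 1 ∧ Nondeg K ∧
      Nat.card K = 2 ^ (2 * n + 1) ∧ (∀ a ∈ closure {x, y, z}, ∀ k ∈ K, Commute a k) ∧
      closure {x, y, z} ⊓ K ≤ zpowers z ∧ closure {x, y, z} ⊔ K = D ∧ HasElem K (n + 1) := by
  obtain ⟨A, hAD, hA, hA2, hAc⟩ := h
  obtain ⟨x, hxA, hxc⟩ : ∃ x ∈ A, x ∉ center P := by
    by_contra hno
    push Not at hno
    have h1 := hAc.trans ((card_le_of_le (show A ≤ center P from hno)).trans hg.center_card.le)
    have h2 : 2 ^ 2 ≤ 2 ^ (n + 2) := Nat.pow_le_pow_right (by norm_num) (by omega)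
    omega
  obtain ⟨y, hy, hP, hy2⟩ := hg.exists_involution_pair hD (hAD hxA) hxc (hA2 x hxA)
  obtain ⟨K, hK, hKc, hcom, hinf, hsup⟩ := hg.split hD hc (hAD hxA) hy hP
  refine ⟨x, y, K, hP, hA2 x hxA, hy2, hK, hKc, hcom, hinf, hsup,
    A ⊓ centralizer ({y} : Set P), hg.inf_centralizer_le hD hA hxA hAD hK hcom hsup,
    ⟨⟨fun a b => Subtype.ext (congrArg Subtype.val (hA.is_comm.comm ⟨a, a.2.1⟩ ⟨b, b.2.1⟩) :)⟩⟩,
    fun a ha => hA2 a ha.1, ?_⟩
  have h2 := hg.card_le_two_mul A y
  rw [pow_succ] at hAc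
  omega

end Gen

theorem notMem_center_of_pair (hg : Gen 2 z) {u v : P} (huv : Pair 2 u v z) : u ∉ center P := by
  intro huc
  have h3 := huv.comm
  rw [(show Commute v u from (mem_center_iff.1 huc v)).eq, left_eq_mul,
    ← orderOf_eq_one_iff, hg.order] at h3
  omega

/-- The type is determined by the rank. -/
theorem iso_of_rank (hg : Gen 2 z) (hg' : Gen 2 z') :
    ∀ (n : ℕ) (D : Subgroup P) (D' : Subgroup P'), Nondeg D → Nondeg D' →
      Nat.card D = 2 ^ (2 * n + 1) → Nat.card D' = 2 ^ (2 * n + 1) →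
      (HasElem D (n + 1) ↔ HasElem D' (n + 1)) → Iso D D' z z' := by
  intro n
  induction n with
  | zero =>
    intro D D' hD hD' hc hc' _
    exact (iso_zpowers hg.order hg'.order).of_eq
      (hg.eq_of_card hD (by simpa using hc)).symm (hg'.eq_of_card hD' (by simpa using hc')).symm
  | succ n ih =>
    intro D D' hD hD' hc hc' hiff
    by_cases h : HasElem D (n + 1 + 1)
    · obtain ⟨x, y, K, hP, hx2, hy2, hK, hKc, hcom, hinf, hsup, hKe⟩ := hg.exists_plus_split hD hc h
      obtain ⟨x', y', K', hP', hx2', hy2', hK', hKc', hcom', hinf', hsup', hKe'⟩ :=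
        hg'.exists_plus_split hD' hc' (hiff.1 h)
      rw [← zpow_zero z] at hx2 hy2
      rw [← zpow_zero z'] at hx2' hy2'
      exact (iso_sup hcom hcom' hinf hinf' (hP.iso hP' hx2 hy2 hx2' hy2')
        (ih K K' hK hK' hKc hKc' ⟨fun _ => hKe', fun _ => hKe⟩)).of_eq hsup hsup'
    have h' : ¬ HasElem D' (n + 1 + 1) := fun hh => h (hiff.2 hh)
    rcases Nat.eq_zero_or_pos n with rfl | hn
    · obtain ⟨e, he, x, hx, y, hy, hP, hx2, hy2⟩ := hg.exists_pair_eight hD hc
      obtain ⟨e', he', x', hx', y', hy', hP', hx2', hy2'⟩ := hg'.exists_pair_eight hD' hc'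
      obtain ⟨K, hK, hKc, hcom, hinf, hsup⟩ := hg.split hD hc hx hy hP
      obtain ⟨K', hK', hKc', hcom', hinf', hsup'⟩ := hg'.split hD' hc' hx' hy' hP'
      have he1 : e = 1 := he.resolve_left fun h0 => h (by
        subst h0
        rw [zpow_zero] at hx2
        exact hg.hasElem_succ hx (notMem_center_of_pair hg hP) hx2 hcom hinf (hsup ▸ le_sup_right)
          (hg.hasElem_base hK))
      have he1' : e' = 1 := he'.resolve_left fun h0 => h' (by
        subst h0
        rw [zpow_zero] at hx2'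
        exact hg'.hasElem_succ hx' (notMem_center_of_pair hg' hP') hx2' hcom' hinf' (hsup' ▸ le_sup_right)
          (hg'.hasElem_base hK'))
      subst he1 he1'
      exact (iso_sup hcom hcom' hinf hinf' (hP.iso hP' hx2 hy2 hx2' hy2')
        ((iso_zpowers hg.order hg'.order).of_eq
          (hg.eq_of_card hK (by simpa using hKc)).symm
          (hg'.eq_of_card hK' (by simpa using hKc')).symm)).of_eq hsup hsup'
    · obtain ⟨m, rfl⟩ : ∃ m, n = m + 1 := ⟨n - 1, by omega⟩
      obtain ⟨x, hx, hxc, hx2⟩ := hg.exists_involution hD hc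
      obtain ⟨x', hx', hxc', hx2'⟩ := hg'.exists_involution hD' hc'
      obtain ⟨y, hy, hP, hy2⟩ := hg.exists_involution_pair hD hx hxc hx2
      obtain ⟨y', hy', hP', hy2'⟩ := hg'.exists_involution_pair hD' hx' hxc' hx2'
      obtain ⟨K, hK, hKc, hcom, hinf, hsup⟩ := hg.split hD hc hx hy hP
      obtain ⟨K', hK', hKc', hcom', hinf', hsup'⟩ := hg'.split hD' hc' hx' hy' hP'
      have hk : ¬ HasElem K (m + 1 + 1) := fun hh =>
        h (hg.hasElem_succ hx hxc hx2 hcom hinf (hsup ▸ le_sup_right) hh)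
      have hk' : ¬ HasElem K' (m + 1 + 1) := fun hh =>
        h' (hg'.hasElem_succ hx' hxc' hx2' hcom' hinf' (hsup' ▸ le_sup_right) hh)
      rw [← zpow_zero z] at hx2 hy2
      rw [← zpow_zero z'] at hx2' hy2'
      exact (iso_sup hcom hcom' hinf hinf' (hP.iso hP' hx2 hy2 hx2' hy2')
        (ih K K' hK hK' hKc hKc' (iff_of_false hk hk'))).of_eq hsup hsup'

end CfsgLib.ExtraspecialIso
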