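import Cfsg.Agent.ExtraspecialBasic.Order
import Cfsg.Agent.Solvable.Frattini

/-!
# Isomorphism types of extraspecial groups

Nondegenerate subgroups containing the centre split off pairs `x`, `y` with `y x = x y z`; such
pieces are glued along the centre.
-/

set_option autoImplicit false

namespace CfsgLib.ExtraspecialIso

open Subgroup CfsgLib.ExtraspecialBasic
open scoped commutatorElement

variable {P P' : Type*} [Group P] [Group P']

/-- Two maps with equal kernels have isomorphic ranges, compatibly. -/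
theorem exists_equiv_range {S : Type*} [Group S] (f : S →* P) (g : S →* P') (h : f.ker = g.ker) :
    ∃ e : f.range ≃* g.range, ∀ s, (e (f.rangeRestrict s) : P') = g s := by
  let e₁ := QuotientGroup.quotientKerEquivRange f
  let e₂ := QuotientGroup.quotientKerEquivRange g
  refine ⟨(e₁.symm.trans (QuotientGroup.quotientMulEquivOfEq h)).trans e₂, fun s => ?_⟩
  have he : e₁.symm (f.rangeRestrict s) = (s : S ⧸ f.ker) := by
    rw [MulEquiv.symm_apply_eq]; rfl
  simp only [MulEquiv.trans_apply, he]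
  rfl

/-- `D` and `D'` are isomorphic with `z` sent to `z'`. -/
def Iso (D : Subgroup P) (D' : Subgroup P') (z : P) (z' : P') : Prop :=
  z ∈ D ∧ ∃ e : D ≃* D', ∀ h : z ∈ D, (e ⟨z, h⟩ : P') = z'

theorem Iso.map_zpow {D : Subgroup P} {D' : Subgroup P'} {z : P} {z' : P'} {e : D ≃* D'}
    (he : ∀ h : z ∈ D, (e ⟨z, h⟩ : P') = z') (hz : z ∈ D) (i : ℤ) (h : z ^ i ∈ D) :
    (e ⟨z ^ i, h⟩ : P') = z' ^ i := by
  have : (⟨z ^ i, h⟩ : D) = ⟨z, hz⟩ ^ i := Subtype.ext (by simp)
  rw [this, _root_.map_zpow, SubgroupClass.coe_zpow, he hz]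

theorem Iso.of_eq {D E : Subgroup P} {D' E' : Subgroup P'} {z : P} {z' : P'} (h : Iso D D' z z')
    (hD : D = E) (hD' : D' = E') : Iso E E' z z' := hD ▸ hD' ▸ h

theorem iso_top {z : P} {z' : P'} (h : Iso (⊤ : Subgroup P) (⊤ : Subgroup P') z z') :
    Nonempty (P ≃* P') := by
  obtain ⟨-, e, -⟩ := h
  exact ⟨Subgroup.topEquiv.symm.trans (e.trans Subgroup.topEquiv)⟩

/-- Gluing two commuting pieces meeting in `⟨z⟩`. -/
theorem iso_sup {A K : Subgroup P} {A' K' : Subgroup P'} {z : P} {z' : P'}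
    (hc : ∀ a ∈ A, ∀ k ∈ K, Commute a k) (hc' : ∀ a ∈ A', ∀ k ∈ K', Commute a k)
    (hi : A ⊓ K ≤ zpowers z) (hi' : A' ⊓ K' ≤ zpowers z')
    (h₁ : Iso A A' z z') (h₂ : Iso K K' z z') : Iso (A ⊔ K) (A' ⊔ K') z z' := by
  obtain ⟨hzA, e₁, he₁⟩ := h₁
  obtain ⟨hzK, e₂, he₂⟩ := h₂
  let f : A × K →* P := A.subtype.noncommCoprod K.subtype fun a k => hc a a.2 k k.2
  let g : A × K →* P' := (A'.subtype.comp e₁.toMonoidHom).noncommCoprod
    (K'.subtype.comp e₂.toMonoidHom) fun a k => hc' _ (e₁ a).2 _ (e₂ k).2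
  have hker : f.ker = g.ker := by
    ext ⟨a, k⟩
    rw [MonoidHom.mem_ker, MonoidHom.mem_ker]
    show (a : P) * k = 1 ↔ (e₁ a : P') * e₂ k = 1
    constructor
    · intro h
      obtain ⟨i, hi⟩ := mem_zpowers_iff.1 (hi ⟨a.2, show (a : P) ∈ K by
        rw [eq_inv_of_mul_eq_one_left h]; exact inv_mem k.2⟩)
      have ha : a = ⟨z ^ i, zpow_mem hzA i⟩ := Subtype.ext hi.symm
      have hk : k = ⟨z ^ (-i), zpow_mem hzK (-i)⟩ := Subtype.ext (by
        show (k : P) = z ^ (-i)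
        rw [eq_inv_of_mul_eq_one_right h, zpow_neg, hi])
      rw [ha, hk, Iso.map_zpow he₁ hzA, Iso.map_zpow he₂ hzK, ← zpow_add, add_neg_cancel, zpow_zero]
    · intro h
      obtain ⟨i, hi⟩ := mem_zpowers_iff.1 (hi' ⟨(e₁ a).2, show (e₁ a : P') ∈ K' by
        rw [eq_inv_of_mul_eq_one_left h]; exact inv_mem (e₂ k).2⟩)
      have ha : a = ⟨z ^ i, zpow_mem hzA i⟩ := e₁.injective (Subtype.ext (by
        rw [Iso.map_zpow he₁ hzA, hi]))
      have hk : k = ⟨z ^ (-i), zpow_mem hzK (-i)⟩ := e₂.injective (Subtype.ext (by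
        rw [Iso.map_zpow he₂ hzK, eq_inv_of_mul_eq_one_right h, zpow_neg, hi]))
      show (a : P) * k = 1
      rw [ha, hk]
      show z ^ i * z ^ (-i) = 1
      rw [← zpow_add, add_neg_cancel, zpow_zero]
  obtain ⟨e, he⟩ := exists_equiv_range f g hker
  have hf : f.range = A ⊔ K := by
    exact (MonoidHom.noncommCoprod_range _ _ _).trans (by rw [range_subtype, range_subtype])
  have hg : g.range = A' ⊔ K' := by
    refine (MonoidHom.noncommCoprod_range _ _ _).trans ?_
    rw [MonoidHom.range_comp, MonoidHom.range_comp,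
      MonoidHom.range_eq_top.2 e₁.surjective, MonoidHom.range_eq_top.2 e₂.surjective,
      ← MonoidHom.range_eq_map, ← MonoidHom.range_eq_map, range_subtype, range_subtype]
  refine ⟨mem_sup_left hzA,
    (MulEquiv.subgroupCongr hf.symm).trans (e.trans (MulEquiv.subgroupCongr hg)), fun h => ?_⟩
  have h1 : (MulEquiv.subgroupCongr hf.symm) ⟨z, h⟩ = f.rangeRestrict (⟨z, hzA⟩, 1) := by
    ext; show z = z * ((1 : K) : P); simp
  show (e ((MulEquiv.subgroupCongr hf.symm) ⟨z, h⟩) : P') = z'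
  rw [h1, he]
  show (e₁ ⟨z, hzA⟩ : P') * ((e₂ 1 : K') : P') = z'
  rw [map_one, he₁]; simp

/-- The integral Heisenberg group. -/
@[ext]
structure Heis where
  a : ℤ
  b : ℤ
  c : ℤ

instance : Mul Heis := ⟨fun u v => ⟨u.a + v.a, u.b + v.b, u.c + v.c + u.b * v.a⟩⟩
instance : One Heis := ⟨⟨0, 0, 0⟩⟩
instance : Inv Heis := ⟨fun u => ⟨-u.a, -u.b, -u.c + u.a * u.b⟩⟩

instance : Group Heis := Group.ofLeftAxioms
  (fun u v w => by
    refine Heis.ext (add_assoc _ _ _) (add_assoc _ _ _) ?_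
    show u.c + v.c + u.b * v.a + w.c + (u.b + v.b) * w.a =
      u.c + (v.c + w.c + v.b * w.a) + u.b * (v.a + w.a)
    ring)
  (fun u => by
    refine Heis.ext (zero_add _) (zero_add _) ?_
    show 0 + u.c + 0 * u.a = u.c
    ring)
  (fun u => by
    refine Heis.ext (neg_add_cancel _) (neg_add_cancel _) ?_
    show -u.c + u.a * u.b + u.c + -u.b * u.a = 0
    ring)

variable {p : ℕ} [hp : Fact p.Prime]

/-- A pair `x`, `y` with commutator `z`, central of order `p`. -/
structure Pair (p : ℕ) (x y z : P) : Prop where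
  comm : y * x = x * y * z
  central : z ∈ center P
  order : orderOf z = p

namespace Pair

variable {x y z : P} (h : Pair p x y z)
include h

theorem commute_z (g : P) : Commute g z := mem_center_iff.1 h.central g

theorem conj_x (i : ℤ) : y * x ^ i * y⁻¹ = x ^ i * z ^ i := by
  rw [← conj_zpow, h.comm, mul_assoc, (h.commute_z y⁻¹).eq.symm, ← mul_assoc, mul_inv_cancel_right,
    (h.commute_z x).mul_zpow]

theorem swap (i j : ℤ) : y ^ j * x ^ i = x ^ i * y ^ j * z ^ (i * j) := by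
  have h1 : (x ^ i)⁻¹ * y * x ^ i = y * z ^ i := by
    have := h.conj_x i
    rw [mul_inv_eq_iff_eq_mul] at this
    rw [mul_assoc, this, mul_assoc, inv_mul_cancel_left]
    exact ((h.commute_z y).zpow_right i).eq.symm
  have h2 : ((x ^ i)⁻¹ * y * x ^ i) ^ j = (x ^ i)⁻¹ * y ^ j * x ^ i := by
    have := conj_zpow (i := j) (a := (x ^ i)⁻¹) (b := y)
    simpa using this
  rw [h1, ((h.commute_z y).zpow_right i).mul_zpow, ← zpow_mul] at h2
  rw [mul_assoc, h2]
  group

/-- The map from the Heisenberg group. -/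
def hom : Heis →* P := MonoidHom.mk' (fun u => x ^ u.a * y ^ u.b * z ^ u.c) fun u v => by
  show x ^ (u.a + v.a) * y ^ (u.b + v.b) * z ^ (u.c + v.c + u.b * v.a) = _
  have hc : ∀ g (i : ℤ), z ^ i * g = g * z ^ i := fun g i => ((h.commute_z g).zpow_right i).eq.symm
  calc _ = x ^ u.a * (x ^ v.a * y ^ u.b * z ^ (v.a * u.b)) * y ^ v.b * z ^ (u.c + v.c) := by
        rw [mul_assoc (x ^ u.a) _ (y ^ v.b), mul_assoc (x ^ v.a * y ^ u.b), hc (y ^ v.b)]
        group
    _ = x ^ u.a * y ^ u.b * (x ^ v.a * y ^ v.b) * z ^ (u.c + v.c) := by rw [← h.swap]; group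
    _ = x ^ u.a * y ^ u.b * (x ^ v.a * y ^ v.b * z ^ u.c) * z ^ v.c := by rw [zpow_add]; group
    _ = _ := by rw [← hc (x ^ v.a * y ^ v.b) u.c]; group

theorem range_hom : h.hom.range = closure {x, y, z} := by
  refine le_antisymm ?_ ((closure_le _).2 ?_)
  · rintro _ ⟨u, rfl⟩
    exact mul_mem (mul_mem (zpow_mem (subset_closure (by simp)) _)
      (zpow_mem (subset_closure (by simp)) _)) (zpow_mem (subset_closure (by simp)) _)
  · intro w hw
    simp only [Set.mem_insert_iff, Set.mem_singleton_iff] at hw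
    rcases hw with hw | hw | hw <;> rw [hw]
    · exact ⟨⟨1, 0, 0⟩, by show x ^ (1 : ℤ) * y ^ (0 : ℤ) * z ^ (0 : ℤ) = x; simp⟩
    · exact ⟨⟨0, 1, 0⟩, by show x ^ (0 : ℤ) * y ^ (1 : ℤ) * z ^ (0 : ℤ) = y; simp⟩
    · exact ⟨⟨0, 0, 1⟩, by show x ^ (0 : ℤ) * y ^ (0 : ℤ) * z ^ (1 : ℤ) = z; simp⟩

theorem dvd_of_commute {i j : ℤ} {k : P} (hxk : Commute x k) (hyk : Commute y k)
    (hx : Commute x (x ^ i * y ^ j * k)) (hy : Commute y (x ^ i * y ^ j * k)) :
    (p : ℤ) ∣ i ∧ (p : ℤ) ∣ j := by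
  have hzi : ∀ l : ℤ, z ^ l = 1 → (p : ℤ) ∣ l := fun l hl => by
    rw [← h.order]; exact orderOf_dvd_iff_zpow_eq_one.2 hl
  have hx' : Commute x (x ^ i * y ^ j) := by
    have := hx.mul_right hxk.inv_right
    rwa [mul_inv_cancel_right] at this
  have hy' : Commute y (x ^ i * y ^ j) := by
    have := hy.mul_right hyk.inv_right
    rwa [mul_inv_cancel_right] at this
  constructor
  · refine hzi i ?_
    have h1 : Commute y (x ^ i) := by
      have := hy'.mul_right (((Commute.refl y).zpow_right j).inv_right)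
      rwa [mul_inv_cancel_right] at this
    have := h.conj_x i
    rwa [h1.eq, mul_inv_cancel_right, left_eq_mul] at this
  · refine hzi j ?_
    have h1 : Commute x (y ^ j) := by
      have := (((Commute.refl x).zpow_right i).inv_right).mul_right hx'
      rwa [inv_mul_cancel_left] at this
    have := h.swap 1 j
    rwa [zpow_one, one_mul, h1.eq, left_eq_mul] at this

theorem hom_eq_one_iff {e f : ℤ} (ha : x ^ p = z ^ e) (hb : y ^ p = z ^ f) (u : Heis) :
    h.hom u = 1 ↔ ∃ s t : ℤ, u.a = p * s ∧ u.b = p * t ∧ (p : ℤ) ∣ e * s + f * t + u.c := by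
  have key : ∀ s t : ℤ, u.a = p * s → u.b = p * t →
      h.hom u = z ^ (e * s + f * t + u.c) := by
    intro s t hs ht
    show x ^ u.a * y ^ u.b * z ^ u.c = _
    rw [hs, ht, zpow_mul, zpow_mul, zpow_natCast, zpow_natCast, ha, hb, ← zpow_mul, ← zpow_mul,
      ← zpow_add, ← zpow_add]
  constructor
  · intro hu
    have hcm : ∀ g, Commute g (x ^ u.a * y ^ u.b * z ^ u.c) := fun g => by
      show Commute g (h.hom u)
      rw [hu]; exact Commute.one_right g
    obtain ⟨⟨s, hs⟩, ⟨t, ht⟩⟩ := h.dvd_of_commute ((h.commute_z x).zpow_right u.c)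
      ((h.commute_z y).zpow_right u.c) (hcm x) (hcm y)
    refine ⟨s, t, hs, ht, ?_⟩
    rw [key s t hs ht, ← orderOf_dvd_iff_zpow_eq_one, h.order] at hu
    exact hu
  · rintro ⟨s, t, hs, ht, hd⟩
    rw [key s t hs ht, ← orderOf_dvd_iff_zpow_eq_one, h.order]
    exact hd

theorem iso {x' y' z' : P'} (h' : Pair p x' y' z') {e f : ℤ}
    (hx : x ^ p = z ^ e) (hy : y ^ p = z ^ f) (hx' : x' ^ p = z' ^ e) (hy' : y' ^ p = z' ^ f) :
    Iso (closure {x, y, z}) (closure {x', y', z'}) z z' := by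
  have hker : h.hom.ker = h'.hom.ker := by
    ext u
    rw [MonoidHom.mem_ker, MonoidHom.mem_ker, h.hom_eq_one_iff hx hy, h'.hom_eq_one_iff hx' hy']
  obtain ⟨E, hE⟩ := exists_equiv_range _ _ hker
  refine ⟨subset_closure (by simp), (MulEquiv.subgroupCongr h.range_hom.symm).trans
    (E.trans (MulEquiv.subgroupCongr h'.range_hom)), fun hz => ?_⟩
  have h1 : (MulEquiv.subgroupCongr h.range_hom.symm) ⟨z, hz⟩ = h.hom.rangeRestrict ⟨0, 0, 1⟩ := by
    ext; show z = x ^ (0 : ℤ) * y ^ (0 : ℤ) * z ^ (1 : ℤ); simp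
  show (E ((MulEquiv.subgroupCongr h.range_hom.symm) ⟨z, hz⟩) : P') = z'
  rw [h1, hE]
  show x' ^ (0 : ℤ) * y' ^ (0 : ℤ) * z' ^ (1 : ℤ) = z'
  simp

end Pair

/-- Nondegenerate subgroups above the centre. -/
structure Nondeg (D : Subgroup P) : Prop where
  center_le : center P ≤ D
  nondeg : ∀ w ∈ D, (∀ d ∈ D, Commute w d) → w ∈ center P

theorem nondeg_top : Nondeg (⊤ : Subgroup P) :=
  ⟨le_top, fun _ _ hw => mem_center_iff.2 fun g => (hw g (mem_top g)).eq.symm⟩

variable (hP : Cfsg.IsExtraspecial p P)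
include hP

theorem exists_generator_center : ∃ z ∈ center P, orderOf z = p ∧ zpowers z = center P := by
  haveI : Finite (center P) := Nat.finite_of_card_ne_zero (by rw [hP.2]; exact hp.out.ne_zero)
  haveI : Nontrivial (center P) :=
    Finite.one_lt_card_iff_nontrivial.1 (by rw [hP.2]; exact hp.out.one_lt)
  obtain ⟨w, hw⟩ := exists_ne (1 : center P)
  refine ⟨w, w.2, ?_, ?_⟩
  · have := orderOf_dvd_natCard w
    rw [hP.2] at this
    rcases (Nat.dvd_prime hp.out).1 this with h | h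
    · exact absurd (orderOf_eq_one_iff.1 h) hw
    · rwa [Subgroup.orderOf_coe]
  · refine le_antisymm (zpowers_le.2 w.2) fun g hg => ?_
    obtain ⟨i, hi⟩ := mem_zpowers_iff.1 (mem_zpowers_of_prime_card hP.2 hw (g' := ⟨g, hg⟩))
    exact ⟨i, by simpa using congrArg Subtype.val hi⟩

variable {z : P} (hz : z ∈ center P) (hzo : orderOf z = p) (hzc : zpowers z = center P)
include hz hzo hzc

theorem exists_pair_of_mem {D : Subgroup P} (hD : Nondeg D) {x : P} (hx : x ∈ D)
    (hxc : x ∉ center P) : ∃ y ∈ D, Pair p x y z := by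
  obtain ⟨y, hy, hxy⟩ : ∃ y ∈ D, ¬ Commute x y := by
    by_contra h
    push Not at h
    exact hxc (hD.nondeg x hx h)
  have hne : commHom hP x y ≠ 1 := fun h => hxy ((commHom_eq_one hP).1 h)
  obtain ⟨j, hj⟩ := mem_zpowers_iff.1
    (mem_zpowers_of_prime_card hP.2 hne (g' := (⟨z⁻¹, inv_mem hz⟩ : center P)))
  rw [← map_zpow] at hj
  have h1 : ⁅x, y ^ j⁆ = z⁻¹ := by rw [← commHom_apply hP, hj]
  refine ⟨y ^ j, zpow_mem hy j, ⟨?_, hz, hzo⟩⟩
  calc y ^ j * x = ⁅x, y ^ j⁆⁻¹ * (x * y ^ j) := by rw [commutatorElement_def]; group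
    _ = x * y ^ j * z := by rw [h1, inv_inv]; exact (mem_center_iff.1 hz _).symm

theorem exists_split [Finite P] {D : Subgroup P} (hD : Nondeg D) {x y : P} (hx : x ∈ D)
    (hy : y ∈ D) (h : Pair p x y z) :
    ∃ K : Subgroup P, Nondeg K ∧ Nat.card D = p * p * Nat.card K ∧
      (∀ a ∈ closure {x, y, z}, ∀ k ∈ K, Commute a k) ∧
      closure {x, y, z} ⊓ K ≤ zpowers z ∧ closure {x, y, z} ⊔ K = D := by
  set K := D ⊓ centralizer ({x, y} : Set P) with hKdef
  have hKc : ∀ k ∈ K, Commute x k ∧ Commute y k := fun k hk =>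
    ⟨hk.2 x (by simp), hk.2 y (by simp)⟩
  have hZK : center P ≤ K := le_inf hD.center_le (center_le_centralizer _)
  have hdec : ∀ d ∈ D, ∃ i j : ℤ, ∃ k ∈ K, d = x ^ i * y ^ j * k := by
    intro d hd
    obtain ⟨i, hi⟩ := mem_zpowers_iff.1 (show ⁅y, d⁆ ∈ zpowers z by
      rw [hzc]; exact commutator_mem_center hP y d)
    obtain ⟨j, hj⟩ := mem_zpowers_iff.1 (show ⁅x, d⁆ ∈ zpowers z by
      rw [hzc]; exact commutator_mem_center hP x d)
    have hxy : (commHom hP x y : P) = z⁻¹ := by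
      rw [commHom_apply, commutatorElement_def]
      calc x * y * x⁻¹ * y⁻¹ = x * y * (y * x)⁻¹ := by group
        _ = z⁻¹ := by rw [h.comm, mul_inv_rev (x * y), ← mul_assoc, (h.commute_z (x * y)).inv_right.eq,
                      mul_inv_cancel_right]
    have hyx : (commHom hP y x : P) = z := by
      rw [commHom_apply, commutatorElement_def, h.comm, mul_assoc (x * y * z), mul_assoc (x * y),
        ← (h.commute_z (y⁻¹ * x⁻¹)).eq]
      group
    have hxx : commHom hP x x = 1 := (commHom_eq_one hP).2 (Commute.refl x)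
    have hyy : commHom hP y y = 1 := (commHom_eq_one hP).2 (Commute.refl y)
    refine ⟨i, -j, (x ^ i * y ^ (-j))⁻¹ * d, mem_inf.2 ⟨D.mul_mem (D.inv_mem (D.mul_mem
      (zpow_mem hx i) (zpow_mem hy _))) hd, ?_⟩, by group⟩
    rintro w (rfl | rfl)
    · refine ((commHom_eq_one hP).1 (Subtype.ext ?_)).eq
      simp only [map_mul, map_inv, map_zpow, hxx, one_zpow, one_mul, Subgroup.coe_mul,
        Subgroup.coe_inv, SubgroupClass.coe_zpow, OneMemClass.coe_one, hxy]
      rw [commHom_apply, ← hj]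
      group
    · refine ((commHom_eq_one hP).1 (Subtype.ext ?_)).eq
      simp only [map_mul, map_inv, map_zpow, hyy, one_zpow, mul_one, Subgroup.coe_mul,
        Subgroup.coe_inv, SubgroupClass.coe_zpow, OneMemClass.coe_one, hyx]
      rw [commHom_apply, ← hi]
      group
  have hAD : closure {x, y, z} ≤ D := (closure_le _).2 (by
    rintro w (rfl | rfl | rfl)
    exacts [hx, hy, hD.center_le hz])
  have hAK : ∀ a ∈ closure {x, y, z}, ∀ k ∈ K, Commute a k := by
    intro a ha k hk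
    obtain ⟨hkx, hky⟩ := hKc k hk
    have : closure {x, y, z} ≤ centralizer {k} := (closure_le _).2 (by
      rintro w (rfl | rfl | rfl) v rfl
      exacts [hkx.symm.eq, hky.symm.eq, mem_center_iff.1 hz v])
    exact (this ha k rfl).symm
  refine ⟨K, ⟨hZK, fun w hw hwc => hD.nondeg w hw.1 fun d hd => ?_⟩, ?_, hAK, ?_, ?_⟩
  · obtain ⟨i, j, k, hk, rfl⟩ := hdec d hd
    obtain ⟨h1, h2⟩ := hKc w hw
    exact ((h1.symm.zpow_right i).mul_right (h2.symm.zpow_right j)).mul_right (hwc k hk)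
  · -- normal forms
    haveI : NeZero p := ⟨hp.out.ne_zero⟩
    let F : Fin p × Fin p × K → D := fun t =>
      ⟨x ^ ((t.1.val : ℕ) : ℤ) * y ^ ((t.2.1.val : ℕ) : ℤ) * t.2.2,
        mul_mem (mul_mem (zpow_mem hx _) (zpow_mem hy _)) t.2.2.2.1⟩
    have hF : Function.Bijective F := by
      constructor
      · rintro ⟨a, b, k⟩ ⟨a', b', k'⟩ he
        have he' : x ^ (a.val : ℤ) * y ^ (b.val : ℤ) * (k : P) =
            x ^ (a'.val : ℤ) * y ^ (b'.val : ℤ) * k' := congrArg Subtype.val he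
        have hk : (x ^ (a'.val : ℤ) * y ^ (b'.val : ℤ))⁻¹ * (x ^ (a.val : ℤ) * y ^ (b.val : ℤ)) ∈ K := by
          have : (x ^ (a'.val : ℤ) * y ^ (b'.val : ℤ))⁻¹ * (x ^ (a.val : ℤ) * y ^ (b.val : ℤ)) =
              (k' : P) * (k : P)⁻¹ := by
            rw [eq_mul_inv_iff_mul_eq, mul_assoc, he']; group
          rw [this]
          exact mul_mem k'.2 (inv_mem k.2)
        obtain ⟨c, hc⟩ : ∃ c : P, c ∈ center P ∧
            (x ^ (a'.val : ℤ) * y ^ (b'.val : ℤ))⁻¹ * (x ^ (a.val : ℤ) * y ^ (b.val : ℤ)) =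
              x ^ ((a.val : ℤ) - a'.val) * y ^ ((b.val : ℤ) - b'.val) * c := by
          refine ⟨z ^ (((a.val : ℤ) - a'.val) * (-(b'.val : ℤ))), zpow_mem hz _, ?_⟩
          have hs := h.swap ((a.val : ℤ) - a'.val) (-(b'.val : ℤ))
          calc _ = y ^ (-(b'.val : ℤ)) * x ^ ((a.val : ℤ) - a'.val) * y ^ (b.val : ℤ) := by group
            _ = x ^ ((a.val : ℤ) - a'.val) * y ^ (-(b'.val : ℤ)) *
                (z ^ (((a.val : ℤ) - a'.val) * (-(b'.val : ℤ))) * y ^ (b.val : ℤ)) := by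
                rw [hs]; group
            _ = _ := by
              rw [((h.commute_z _).zpow_right _).eq.symm]
              group
        obtain ⟨hk1, hk2⟩ := hKc _ hk
        rw [hc.2] at hk1 hk2
        obtain ⟨hda, hdb⟩ := h.dvd_of_commute (mem_center_iff.1 hc.1 x) (mem_center_iff.1 hc.1 y)
          hk1 hk2
        have hlt : ∀ u v : Fin p, (p : ℤ) ∣ (u.val : ℤ) - v.val → u = v := fun u v huv => by
          have := Int.eq_zero_of_abs_lt_dvd huv (by
            have := u.isLt; have := v.isLt; rw [abs_lt]; omega)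
          exact Fin.ext (by omega)
        obtain rfl := hlt _ _ hda
        obtain rfl := hlt _ _ hdb
        simp only [Prod.mk.injEq, true_and]
        exact Subtype.ext (mul_left_cancel he')
      · rintro ⟨d, hd⟩
        obtain ⟨i, j, k, hk, rfl⟩ := hdec d hd
        have hpo : (0 : ℤ) < p := by exact_mod_cast hp.out.pos
        have hxp : x ^ (p : ℤ) ∈ center P := by rw [zpow_natCast]; exact pow_mem_center hP x
        have hyp : y ^ (p : ℤ) ∈ center P := by rw [zpow_natCast]; exact pow_mem_center hP y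
        refine ⟨⟨⟨(i % p).toNat, ?_⟩, ⟨(j % p).toNat, ?_⟩,
          ⟨(x ^ (p : ℤ)) ^ (i / p) * (y ^ (p : ℤ)) ^ (j / p) * k,
            mul_mem (mul_mem (hZK (zpow_mem hxp _)) (hZK (zpow_mem hyp _))) hk⟩⟩, Subtype.ext ?_⟩
        · have := Int.emod_lt_of_pos i hpo; have := Int.emod_nonneg i hpo.ne'; omega
        · have := Int.emod_lt_of_pos j hpo; have := Int.emod_nonneg j hpo.ne'; omega
        show x ^ (((i % p).toNat : ℕ) : ℤ) * y ^ (((j % p).toNat : ℕ) : ℤ) *
          ((x ^ (p : ℤ)) ^ (i / p) * (y ^ (p : ℤ)) ^ (j / p) * k) = x ^ i * y ^ j * k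
        rw [Int.toNat_of_nonneg (Int.emod_nonneg i hpo.ne'),
          Int.toNat_of_nonneg (Int.emod_nonneg j hpo.ne')]
        conv_rhs => rw [← Int.emod_add_mul_ediv i p, ← Int.emod_add_mul_ediv j p]
        rw [zpow_add, zpow_add, zpow_mul x (p : ℤ), zpow_mul y (p : ℤ)]
        have hcx := mem_center_iff.1 (zpow_mem hxp (i / p)) (y ^ (j % p))
        calc _ = x ^ (i % ↑p) * (y ^ (j % ↑p) * (x ^ (p : ℤ)) ^ (i / ↑p)) *
              (y ^ (p : ℤ)) ^ (j / ↑p) * k := by group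
          _ = _ := by rw [hcx]; group
    rw [← Nat.card_eq_of_bijective F hF, Nat.card_prod, Nat.card_prod, Nat.card_fin, mul_assoc]
  · rintro w ⟨hwA, hwK⟩
    rw [SetLike.mem_coe, ← h.range_hom] at hwA
    obtain ⟨u, rfl⟩ := hwA
    obtain ⟨hk1, hk2⟩ := hKc _ hwK
    obtain ⟨⟨s, hs⟩, ⟨t, ht⟩⟩ := h.dvd_of_commute ((h.commute_z x).zpow_right u.c)
      ((h.commute_z y).zpow_right u.c) hk1 hk2
    show x ^ u.a * y ^ u.b * z ^ u.c ∈ zpowers z
    rw [hs, ht, zpow_mul, zpow_mul, zpow_natCast, zpow_natCast, hzc]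
    exact mul_mem (mul_mem (zpow_mem (pow_mem_center hP x) _) (zpow_mem (pow_mem_center hP y) _))
      (zpow_mem hz _)
  · refine le_antisymm (sup_le hAD inf_le_left) fun d hd => ?_
    obtain ⟨i, j, k, hk, rfl⟩ := hdec d hd
    exact mul_mem_sup (mul_mem (zpow_mem (subset_closure (by simp)) i)
      (zpow_mem (subset_closure (by simp)) j)) hk

end CfsgLib.ExtraspecialIso
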