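import Cfsg.Agent.ExtraspecialIso.Basic

/-!
# Classification of extraspecial groups up to isomorphism

For odd `p` and exponent `p` one type for each order; for `p = 2` at most two types for each order.
-/

set_option autoImplicit false

namespace CfsgLib.ExtraspecialIso

open Subgroup CfsgLib.ExtraspecialBasic
open scoped commutatorElement

variable {P P' P'' : Type*} [Group P] [Group P'] [Group P'']
variable [Finite P] [Finite P'] [Finite P''] {p : ℕ} [hp : Fact p.Prime]

omit [Finite P] [Finite P'] in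
theorem iso_zpowers {z : P} {z' : P'} (h : orderOf z = p) (h' : orderOf z' = p) :
    Iso (zpowers z) (zpowers z') z z' := by
  have hker : (zpowersHom P z).ker = (zpowersHom P' z').ker := by
    ext i
    rw [MonoidHom.mem_ker, MonoidHom.mem_ker, zpowersHom_apply, zpowersHom_apply,
      ← orderOf_dvd_iff_zpow_eq_one, ← orderOf_dvd_iff_zpow_eq_one, h, h']
  obtain ⟨e, he⟩ := exists_equiv_range _ _ hker
  refine ⟨mem_zpowers z, e, fun hz => ?_⟩
  refine Eq.trans ?_ ((he (Multiplicative.ofAdd 1)).trans (by simp))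
  refine congrArg (fun w => ((e w) : P')) (Subtype.ext ?_)
  show z = z ^ (1 : ℤ)
  simp

/-- The data of a centre generator. -/
structure Gen (p : ℕ) (z : P) : Prop where
  extra : Cfsg.IsExtraspecial p P
  mem : z ∈ center P
  order : orderOf z = p
  gen : zpowers z = center P

theorem exists_gen (hP : Cfsg.IsExtraspecial p P) : ∃ z : P, Gen p z := by
  obtain ⟨z, h1, h2, h3⟩ := exists_generator_center hP
  exact ⟨z, hP, h1, h2, h3⟩

namespace Gen

variable {z : P} (hg : Gen p z)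
include hg

theorem eq_of_card {D : Subgroup P} (hD : Nondeg D) (h : Nat.card D = p) : D = zpowers z := by
  rw [hg.gen]
  exact (eq_of_le_of_card_ge hD.center_le (by rw [h, hg.extra.2])).symm

theorem exists_notMem {D : Subgroup P} {n : ℕ} (h : Nat.card D = p ^ (2 * (n + 1) + 1)) :
    ∃ x ∈ D, x ∉ center P := by
  by_contra hno
  push Not at hno
  have h1 := card_le_of_le (show D ≤ center P from hno)
  rw [h, hg.extra.2] at h1
  have h2 : p ^ 1 < p ^ (2 * (n + 1) + 1) := Nat.pow_lt_pow_right hp.out.one_lt (by omega)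
  rw [pow_one] at h2
  omega

theorem split {D : Subgroup P} (hD : Nondeg D) {n : ℕ} (hn : Nat.card D = p ^ (2 * (n + 1) + 1))
    {x y : P} (hx : x ∈ D) (hy : y ∈ D) (h : Pair p x y z) :
    ∃ K : Subgroup P, Nondeg K ∧ Nat.card K = p ^ (2 * n + 1) ∧
      (∀ a ∈ closure {x, y, z}, ∀ k ∈ K, Commute a k) ∧
      closure {x, y, z} ⊓ K ≤ zpowers z ∧ closure {x, y, z} ⊔ K = D := by
  obtain ⟨K, h1, h2, h3⟩ := exists_split hg.extra hg.mem hg.order hg.gen hD hx hy h
  refine ⟨K, h1, ?_, h3⟩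
  rw [hn] at h2
  have h4 : p ^ (2 * (n + 1) + 1) = p * p * p ^ (2 * n + 1) := by ring
  rw [h4] at h2
  exact (Nat.eq_of_mul_eq_mul_left (Nat.mul_pos hp.out.pos hp.out.pos) h2).symm

end Gen

/-- Odd exponent `p`: one type. -/
theorem iso_of_exponent {z : P} {z' : P'} (hg : Gen p z) (hg' : Gen p z')
    (he : ∀ x : P, x ^ p = 1) (he' : ∀ x : P', x ^ p = 1) :
    ∀ (n : ℕ) (D : Subgroup P) (D' : Subgroup P'), Nondeg D → Nondeg D' →
      Nat.card D = p ^ (2 * n + 1) → Nat.card D' = p ^ (2 * n + 1) → Iso D D' z z' := by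
  intro n
  induction n with
  | zero =>
    intro D D' hD hD' hc hc'
    exact (iso_zpowers hg.order hg'.order).of_eq (hg.eq_of_card hD (by simpa using hc)).symm
      (hg'.eq_of_card hD' (by simpa using hc')).symm
  | succ n ih =>
    intro D D' hD hD' hc hc'
    obtain ⟨x, hx, hxc⟩ := hg.exists_notMem hc
    obtain ⟨x', hx', hxc'⟩ := hg'.exists_notMem hc'
    obtain ⟨y, hy, hP⟩ := exists_pair_of_mem hg.extra hg.mem hg.order hg.gen hD hx hxc
    obtain ⟨y', hy', hP'⟩ := exists_pair_of_mem hg'.extra hg'.mem hg'.order hg'.gen hD' hx' hxc'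
    obtain ⟨K, hK, hKc, hcom, hinf, hsup⟩ := hg.split hD hc hx hy hP
    obtain ⟨K', hK', hKc', hcom', hinf', hsup'⟩ := hg'.split hD' hc' hx' hy' hP'
    exact (iso_sup hcom hcom' hinf hinf' (hP.iso hP' (e := 0) (f := 0) (by rw [he, zpow_zero])
      (by rw [he, zpow_zero]) (by rw [he', zpow_zero]) (by rw [he', zpow_zero]))
      (ih K K' hK hK' hKc hKc')).of_eq hsup hsup'

namespace Gen

variable [hp2 : Fact (Nat.Prime 2)] {z : P} (hg : Gen 2 z)
include hg

theorem sq_cases (x : P) : x ^ 2 = 1 ∨ x ^ 2 = z := by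
  have h : x ^ 2 ∈ zpowers z := by rw [hg.gen]; exact pow_mem_center hg.extra x
  obtain ⟨i, hi⟩ := mem_zpowers_iff.1 h
  rw [← zpow_mod_orderOf, hg.order] at hi
  rcases Int.emod_two_eq_zero_or_one i with h2 | h2 <;>
    simp only [Nat.cast_ofNat, h2, zpow_zero, zpow_one] at hi
  · exact Or.inl hi.symm
  · exact Or.inr hi.symm

theorem z_sq : z * z = 1 := by
  rw [← pow_two, ← hg.order, pow_orderOf_eq_one]

theorem mul_sq {x y : P} (h : Pair 2 x y z) : (y * x) ^ 2 = y ^ 2 * x ^ 2 * z := by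
  have h1 : x * y = y * x * z := by
    rw [h.comm, mul_assoc, hg.z_sq, mul_one]
  calc (y * x) ^ 2 = y * (x * y) * x := by rw [pow_two]; group
    _ = y * y * (x * z * x) := by rw [h1]; group
    _ = y * y * (x * (x * z)) := by rw [mul_assoc x z x, (h.commute_z x).eq]
    _ = _ := by rw [pow_two, pow_two]; group

/-- A noncentral involution gives a pair of involutions. -/
theorem exists_involution_pair {D : Subgroup P} (hD : Nondeg D) {x : P} (hx : x ∈ D)
    (hxc : x ∉ center P) (hx2 : x ^ 2 = 1) :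
    ∃ y ∈ D, Pair 2 x y z ∧ y ^ 2 = 1 := by
  obtain ⟨y, hy, h⟩ := exists_pair_of_mem hg.extra hg.mem hg.order hg.gen hD hx hxc
  rcases hg.sq_cases y with hy2 | hy2
  · exact ⟨y, hy, h, hy2⟩
  · refine ⟨y * x, mul_mem hy hx, ⟨?_, hg.mem, hg.order⟩, by rw [hg.mul_sq h, hy2, hx2, mul_one, hg.z_sq]⟩
    calc y * x * x = (x * y * z) * x := by rw [← h.comm]
      _ = x * y * (x * z) := by rw [(h.commute_z x).eq]; group
      _ = x * (y * x) * z := by group

theorem exists_involution {D : Subgroup P} (hD : Nondeg D) {n : ℕ}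
    (hn : Nat.card D = 2 ^ (2 * (n + 2) + 1)) : ∃ x ∈ D, x ∉ center P ∧ x ^ 2 = 1 := by
  obtain ⟨x, hx, hxc⟩ := hg.exists_notMem hn
  rcases hg.sq_cases x with hx2 | hx2
  · exact ⟨x, hx, hxc, hx2⟩
  obtain ⟨y, hy, hP⟩ := exists_pair_of_mem hg.extra hg.mem hg.order hg.gen hD hx hxc
  obtain ⟨K, hK, hKc, hcom, hinf, hsup⟩ := hg.split hD hn hx hy hP
  have hKD : K ≤ D := hsup ▸ le_sup_right
  obtain ⟨u, hu, huc⟩ := hg.exists_notMem hKc
  rcases hg.sq_cases u with hu2 | hu2
  · exact ⟨u, hKD hu, huc, hu2⟩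
  have hxu : Commute x u := hcom x (subset_closure (by simp)) u hu
  refine ⟨x * u, mul_mem hx (hKD hu), fun hmem => hxc ?_, by
    rw [hxu.mul_pow, hx2, hu2, hg.z_sq]⟩
  exfalso
  have hyu : Commute y u := hcom y (subset_closure (by simp)) u hu
  have h1 : Commute y (x * u) := mem_center_iff.1 hmem y
  have h2 : Commute y x := by
    have := h1.mul_right hyu.inv_right
    rwa [mul_inv_cancel_right] at this
  have h3 := hP.comm
  rw [h2.eq, left_eq_mul, ← orderOf_eq_one_iff, hg.order] at h3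
  omega

/-- Order eight: one of the two types. -/
theorem exists_pair_eight {D : Subgroup P} (hD : Nondeg D)
    (hn : Nat.card D = 2 ^ (2 * (0 + 1) + 1)) :
    ∃ e : ℤ, (e = 0 ∨ e = 1) ∧ ∃ x ∈ D, ∃ y ∈ D, Pair 2 x y z ∧ x ^ 2 = z ^ e ∧ y ^ 2 = z ^ e := by
  by_cases h : ∃ x ∈ D, x ∉ center P ∧ x ^ 2 = 1
  · obtain ⟨x, hx, hxc, hx2⟩ := h
    obtain ⟨y, hy, hP, hy2⟩ := hg.exists_involution_pair hD hx hxc hx2
    exact ⟨0, Or.inl rfl, x, hx, y, hy, hP, by rw [hx2, zpow_zero], by rw [hy2, zpow_zero]⟩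
  · push Not at h
    obtain ⟨x, hx, hxc⟩ := hg.exists_notMem hn
    obtain ⟨y, hy, hP⟩ := exists_pair_of_mem hg.extra hg.mem hg.order hg.gen hD hx hxc
    have hyc : y ∉ center P := by
      intro hy'
      have h3 := hP.comm
      rw [(show Commute y x from (mem_center_iff.1 hy' x).symm).eq, left_eq_mul,
        ← orderOf_eq_one_iff, hg.order] at h3
      omega
    exact ⟨1, Or.inr rfl, x, hx, y, hy, hP,
      by rw [zpow_one]; exact (hg.sq_cases x).resolve_left (h x hx hxc),
      by rw [zpow_one]; exact (hg.sq_cases y).resolve_left (h y hy hyc)⟩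

end Gen

/-- Two-groups: among three groups of the same order two agree. -/
theorem iso_two [Fact (Nat.Prime 2)] {z : P} {z' : P'} {z'' : P''}
    (hg : Gen 2 z) (hg' : Gen 2 z') (hg'' : Gen 2 z'') :
    ∀ (n : ℕ) (D : Subgroup P) (D' : Subgroup P') (D'' : Subgroup P''),
      Nondeg D → Nondeg D' → Nondeg D'' → Nat.card D = 2 ^ (2 * n + 1) →
      Nat.card D' = 2 ^ (2 * n + 1) → Nat.card D'' = 2 ^ (2 * n + 1) →
      Iso D D' z z' ∨ Iso D' D'' z' z'' ∨ Iso D D'' z z'' := by
  intro n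
  induction n with
  | zero =>
    intro D D' D'' hD hD' _ hc hc' _
    exact Or.inl ((iso_zpowers hg.order hg'.order).of_eq
      (hg.eq_of_card hD (by simpa using hc)).symm (hg'.eq_of_card hD' (by simpa using hc')).symm)
  | succ n ih =>
    intro D D' D'' hD hD' hD'' hc hc' hc''
    rcases Nat.eq_zero_or_pos n with rfl | hn
    · obtain ⟨e, he, x, hx, y, hy, hP, hx2, hy2⟩ := hg.exists_pair_eight hD hc
      obtain ⟨e', he', x', hx', y', hy', hP', hx2', hy2'⟩ := hg'.exists_pair_eight hD' hc'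
      obtain ⟨e'', he'', x'', hx'', y'', hy'', hP'', hx2'', hy2''⟩ := hg''.exists_pair_eight hD'' hc''
      obtain ⟨K, hK, hKc, hcom, hinf, hsup⟩ := hg.split hD hc hx hy hP
      obtain ⟨K', hK', hKc', hcom', hinf', hsup'⟩ := hg'.split hD' hc' hx' hy' hP'
      obtain ⟨K'', hK'', hKc'', hcom'', hinf'', hsup''⟩ := hg''.split hD'' hc'' hx'' hy'' hP''
      have hK1 : K = zpowers z := hg.eq_of_card hK (by simpa using hKc)
      have hK1' : K' = zpowers z' := hg'.eq_of_card hK' (by simpa using hKc')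
      have hK1'' : K'' = zpowers z'' := hg''.eq_of_card hK'' (by simpa using hKc'')
      rcases (show e = e' ∨ e' = e'' ∨ e = e'' by omega) with h | h | h <;> subst h
      · exact Or.inl ((iso_sup hcom hcom' hinf hinf' (hP.iso hP' hx2 hy2 hx2' hy2')
          ((iso_zpowers hg.order hg'.order).of_eq hK1.symm hK1'.symm)).of_eq hsup hsup')
      · exact Or.inr (Or.inl ((iso_sup hcom' hcom'' hinf' hinf'' (hP'.iso hP'' hx2' hy2' hx2'' hy2'')
          ((iso_zpowers hg'.order hg''.order).of_eq hK1'.symm hK1''.symm)).of_eq hsup' hsup''))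
      · exact Or.inr (Or.inr ((iso_sup hcom hcom'' hinf hinf'' (hP.iso hP'' hx2 hy2 hx2'' hy2'')
          ((iso_zpowers hg.order hg''.order).of_eq hK1.symm hK1''.symm)).of_eq hsup hsup''))
    · obtain ⟨m, rfl⟩ : ∃ m, n = m + 1 := ⟨n - 1, by omega⟩
      obtain ⟨x, hx, hxc, hx2⟩ := hg.exists_involution hD hc
      obtain ⟨x', hx', hxc', hx2'⟩ := hg'.exists_involution hD' hc'
      obtain ⟨x'', hx'', hxc'', hx2''⟩ := hg''.exists_involution hD'' hc''
      obtain ⟨y, hy, hP, hy2⟩ := hg.exists_involution_pair hD hx hxc hx2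
      obtain ⟨y', hy', hP', hy2'⟩ := hg'.exists_involution_pair hD' hx' hxc' hx2'
      obtain ⟨y'', hy'', hP'', hy2''⟩ := hg''.exists_involution_pair hD'' hx'' hxc'' hx2''
      obtain ⟨K, hK, hKc, hcom, hinf, hsup⟩ := hg.split hD hc hx hy hP
      obtain ⟨K', hK', hKc', hcom', hinf', hsup'⟩ := hg'.split hD' hc' hx' hy' hP'
      obtain ⟨K'', hK'', hKc'', hcom'', hinf'', hsup''⟩ := hg''.split hD'' hc'' hx'' hy'' hP''
      rw [← zpow_zero z] at hx2 hy2
      rw [← zpow_zero z'] at hx2' hy2'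
      rw [← zpow_zero z''] at hx2'' hy2''
      rcases ih K K' K'' hK hK' hK'' hKc hKc' hKc'' with h | h | h
      · exact Or.inl ((iso_sup hcom hcom' hinf hinf' (hP.iso hP' hx2 hy2 hx2' hy2') h).of_eq hsup hsup')
      · exact Or.inr (Or.inl ((iso_sup hcom' hcom'' hinf' hinf''
          (hP'.iso hP'' hx2' hy2' hx2'' hy2'') h).of_eq hsup' hsup''))
      · exact Or.inr (Or.inr ((iso_sup hcom hcom'' hinf hinf''
          (hP.iso hP'' hx2 hy2 hx2'' hy2'') h).of_eq hsup hsup''))

end CfsgLib.ExtraspecialIso
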